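import Groth.Agent.ModStalk.Sky

/-! Stalks of tensor products of O_X-modules. -/

set_option autoImplicit false
set_option backward.isDefEq.respectTransparency false
set_option backward.defeqAttrib.useBackward true
set_option linter.style.haveILetI false

universe u

open CategoryTheory CategoryTheory.Limits AlgebraicGeometry Opposite TopologicalSpace MonoidalCategory
open scoped TensorProduct

namespace Groth.Agent.ModStalk

variable {X : Scheme.{u}} {x : X} (P Q : CohB1.PMod X)

/-- Restriction of sections. -/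
noncomputable abbrev pres (P : CohB1.PMod X) {U V : X.Opens} (i : V ⟶ U) (p : P.obj (op U)) : P.obj (op V) :=
  P.map i.op p

/-- The pure tensor of two sections. -/
noncomputable def secTmul {U : X.Opens} (p : P.obj (op U)) (q : Q.obj (op U)) : (P ⊗ Q).obj (op U) :=
  p ⊗ₜ[X.presheaf.obj (op U)] q

lemma secTmul_map {U V : X.Opens} (i : V ⟶ U) (p : P.obj (op U)) (q : Q.obj (op U)) :
    (P ⊗ Q).map i.op (secTmul P Q p q) = secTmul P Q (pres P i p) (pres Q i q) := rfl

lemma secTmul_add_left {U : X.Opens} (p p' : P.obj (op U)) (q : Q.obj (op U)) :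
    secTmul P Q (p + p') q = secTmul P Q p q + secTmul P Q p' q :=
  TensorProduct.add_tmul _ _ _

lemma secTmul_add_right {U : X.Opens} (p : P.obj (op U)) (q q' : Q.obj (op U)) :
    secTmul P Q p (q + q') = secTmul P Q p q + secTmul P Q p q' :=
  TensorProduct.tmul_add _ _ _

lemma secTmul_smul_left {U : X.Opens} (r : X.presheaf.obj (op U)) (p : P.obj (op U))
    (q : Q.obj (op U)) : secTmul P Q (r • p) q = r • secTmul P Q p q :=
  (TensorProduct.smul_tmul' r p q).symm

lemma secTmul_smul_right {U : X.Opens} (r : X.presheaf.obj (op U)) (p : P.obj (op U))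
    (q : Q.obj (op U)) : secTmul P Q p (r • q) = r • secTmul P Q p q :=
  TensorProduct.tmul_smul r p q

/-- From the sections of a tensor product to the skyscraper on the tensor product of stalks. -/
noncomputable def tensToSky :
    P ⊗ Q ⟶ (skyP x).obj ((stalkP x).obj P ⊗ (stalkP x).obj Q) where
  app U := ModuleCat.MonoidalCategory.tensorLift (M₁ := P.obj U) (M₂ := Q.obj U)
    (fun p q => (smk fun h => germP x P U.unop h p ⊗ₜ[X.presheaf.stalk x] germP x Q U.unop h q :
      SkySec ((stalkP x).obj P ⊗ (stalkP x).obj Q) U.unop))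
    (fun p p' q => sval_ext fun h => by
      change germP x P U.unop h (p + p') ⊗ₜ[X.presheaf.stalk x] germP x Q U.unop h q = _
      rw [germP_add]
      exact TensorProduct.add_tmul _ _ _)
    (fun r p q => sval_ext fun h => by
      change germP x P U.unop h (r • p) ⊗ₜ[X.presheaf.stalk x] germP x Q U.unop h q = _
      rw [germP_smul]
      exact (TensorProduct.smul_tmul' _ _ _).symm)
    (fun p q q' => sval_ext fun h => by
      change germP x P U.unop h p ⊗ₜ[X.presheaf.stalk x] germP x Q U.unop h (q + q') = _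
      rw [germP_add]
      exact TensorProduct.tmul_add _ _ _)
    (fun r p q => sval_ext fun h => by
      change germP x P U.unop h p ⊗ₜ[X.presheaf.stalk x] germP x Q U.unop h (r • q) = _
      rw [germP_smul]
      exact TensorProduct.tmul_smul _ _ _)
  naturality {U V} i := ModuleCat.MonoidalCategory.tensor_ext fun p q => sval_ext fun h => by
    change germP x P V.unop h (P.map i.unop.op p) ⊗ₜ[X.presheaf.stalk x] germP x Q V.unop h (Q.map i.unop.op q) = _
    rw [germP_res, germP_res]
    rfl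

variable (x) in
/-- Comparison from the stalk of a tensor product. -/
noncomputable def tensToStalks : (stalkP x).obj (P ⊗ Q) ⟶ (stalkP x).obj P ⊗ (stalkP x).obj Q :=
  descLin (tensToSky P Q)

lemma tensToStalks_germP (U : X.Opens) (hx : x ∈ U) (p : P.obj (op U)) (q : Q.obj (op U)) :
    tensToStalks x P Q (germP x (P ⊗ Q) U hx (secTmul P Q p q)) =
      germP x P U hx p ⊗ₜ[X.presheaf.stalk x] germP x Q U hx q :=
  (descFun_germP (tensToSky P Q) U hx _).trans rfl

/-- The product of germs. -/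
noncomputable def psi (m : stalkPObj x P) (n : stalkPObj x Q) : stalkPObj x (P ⊗ Q) :=
  germP x (P ⊗ Q) ((exists_germP_eq P m).choose ⊓ (exists_germP_eq Q n).choose)
    ⟨(exists_germP_eq P m).choose_spec.choose, (exists_germP_eq Q n).choose_spec.choose⟩
    (secTmul P Q (pres P (Opens.infLELeft _ _) (exists_germP_eq P m).choose_spec.choose_spec.choose)
      (pres Q (Opens.infLERight _ _) (exists_germP_eq Q n).choose_spec.choose_spec.choose))

lemma germP_map_comp {U V W : X.Opens} (i : V ⟶ U) (j : W ⟶ V) (s : P.obj (op U)) :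
    pres P j (pres P i s) = pres P (j ≫ i) s :=
  (P.map_comp_apply i.op j.op s).symm

lemma psi_germP (U : X.Opens) (hx : x ∈ U) (p : P.obj (op U)) (q : Q.obj (op U)) :
    psi P Q (germP x P U hx p) (germP x Q U hx q) = germP x (P ⊗ Q) U hx (secTmul P Q p q) := by
  unfold psi
  generalize_proofs h₁ h₂ h₃ h₄
  obtain ⟨W₁, hW₁, a, a', ha⟩ := germP_eq_iff P h₁.choose_spec.choose hx h₁.choose_spec.choose_spec.choose p
    h₁.choose_spec.choose_spec.choose_spec
  obtain ⟨W₂, hW₂, b, b', hb⟩ := germP_eq_iff Q h₂.choose_spec.choose hx h₂.choose_spec.choose_spec.choose q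
    h₂.choose_spec.choose_spec.choose_spec
  let j₁ : W₁ ⊓ W₂ ⟶ h₁.choose ⊓ h₂.choose :=
    homOfLE (le_inf (inf_le_left.trans a.le) (inf_le_right.trans b.le))
  let j₂ : W₁ ⊓ W₂ ⟶ U := Opens.infLELeft W₁ W₂ ≫ a'
  rw [← germP_res (P ⊗ Q) j₁ ⟨hW₁, hW₂⟩, ← germP_res (P ⊗ Q) j₂ ⟨hW₁, hW₂⟩ (secTmul P Q p q),
    secTmul_map, secTmul_map, germP_map_comp P, germP_map_comp Q]
  congr 2
  · have := congrArg (pres P (Opens.infLELeft W₁ W₂)) ha
    rw [germP_map_comp P, germP_map_comp P] at this
    exact this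
  · have := congrArg (pres Q (Opens.infLERight W₁ W₂)) hb
    rw [germP_map_comp Q, germP_map_comp Q] at this
    exact this

lemma exists_common (m : stalkPObj x P) (n : stalkPObj x Q) :
    ∃ (W : X.Opens) (h : x ∈ W) (p : P.obj (op W)) (q : Q.obj (op W)),
      germP x P W h p = m ∧ germP x Q W h q = n := by
  obtain ⟨U, hU, p, rfl⟩ := exists_germP_eq P m
  obtain ⟨V, hV, q, rfl⟩ := exists_germP_eq Q n
  exact ⟨U ⊓ V, ⟨hU, hV⟩, pres P (Opens.infLELeft U V) p, pres Q (Opens.infLERight U V) q,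
    germP_res P _ _ _, germP_res Q _ _ _⟩

lemma psi_add_left (m m' : stalkPObj x P) (n : stalkPObj x Q) :
    psi P Q (m + m') n = psi P Q m n + psi P Q m' n := by
  obtain ⟨U, hU, p, q, rfl, rfl⟩ := exists_common P Q m n
  obtain ⟨V, hV, p', rfl⟩ := exists_germP_eq P m'
  rw [← germP_res P (Opens.infLELeft U V) ⟨hU, hV⟩ p, ← germP_res Q (Opens.infLELeft U V) ⟨hU, hV⟩ q,
    ← germP_res P (Opens.infLERight U V) ⟨hU, hV⟩ p', ← germP_add, psi_germP, psi_germP, psi_germP,
    secTmul_add_left, germP_add]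

lemma psi_add_right (m : stalkPObj x P) (n n' : stalkPObj x Q) :
    psi P Q m (n + n') = psi P Q m n + psi P Q m n' := by
  obtain ⟨U, hU, p, q, rfl, rfl⟩ := exists_common P Q m n
  obtain ⟨V, hV, q', rfl⟩ := exists_germP_eq Q n'
  rw [← germP_res P (Opens.infLELeft U V) ⟨hU, hV⟩ p, ← germP_res Q (Opens.infLELeft U V) ⟨hU, hV⟩ q,
    ← germP_res Q (Opens.infLERight U V) ⟨hU, hV⟩ q', ← germP_add, psi_germP, psi_germP, psi_germP,
    secTmul_add_right, germP_add]

lemma psi_smul_left (r : X.presheaf.stalk x) (m : stalkPObj x P) (n : stalkPObj x Q) :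
    psi P Q (r • m) n = r • psi P Q m n := by
  obtain ⟨U, hU, p, q, rfl, rfl⟩ := exists_common P Q m n
  obtain ⟨V, hV, r, rfl⟩ := X.presheaf.exists_germ_eq (x := x) r
  rw [← germP_res P (Opens.infLELeft U V) ⟨hU, hV⟩ p, ← germP_res Q (Opens.infLELeft U V) ⟨hU, hV⟩ q,
    ← X.presheaf.germ_res_apply (Opens.infLERight U V) x ⟨hU, hV⟩ r, ← germP_smul, psi_germP, psi_germP,
    secTmul_smul_left, germP_smul]

lemma psi_smul_right (r : X.presheaf.stalk x) (m : stalkPObj x P) (n : stalkPObj x Q) :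
    psi P Q m (r • n) = r • psi P Q m n := by
  obtain ⟨U, hU, p, q, rfl, rfl⟩ := exists_common P Q m n
  obtain ⟨V, hV, r, rfl⟩ := X.presheaf.exists_germ_eq (x := x) r
  rw [← germP_res P (Opens.infLELeft U V) ⟨hU, hV⟩ p, ← germP_res Q (Opens.infLELeft U V) ⟨hU, hV⟩ q,
    ← X.presheaf.germ_res_apply (Opens.infLERight U V) x ⟨hU, hV⟩ r, ← germP_smul, psi_germP, psi_germP,
    secTmul_smul_right, germP_smul]

variable (x) in
/-- Comparison into the stalk of a tensor product. -/
noncomputable def stalksToTens : (stalkP x).obj P ⊗ (stalkP x).obj Q ⟶ (stalkP x).obj (P ⊗ Q) :=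
  ModuleCat.MonoidalCategory.tensorLift (psi P Q) (psi_add_left P Q) (psi_smul_left P Q)
    (psi_add_right P Q) (psi_smul_right P Q)

lemma stalksToTens_tmul (m : stalkPObj x P) (n : stalkPObj x Q) :
    stalksToTens x P Q (m ⊗ₜ[X.presheaf.stalk x] n) = psi P Q m n := rfl

lemma tensToStalks_stalksToTens : tensToStalks x P Q ≫ stalksToTens x P Q = 𝟙 _ := by
  refine stalkP_hom_ext fun U hU s => ?_
  change stalksToTens x P Q (tensToStalks x P Q (germP x (P ⊗ Q) U hU s)) = germP x (P ⊗ Q) U hU s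
  induction s using TensorProduct.induction_on with
  | zero => erw [germP_zero, map_zero, map_zero]
  | tmul p q =>
    change stalksToTens x P Q (tensToStalks x P Q (germP x (P ⊗ Q) U hU (secTmul P Q p q))) = _
    rw [tensToStalks_germP, stalksToTens_tmul, psi_germP]
    rfl
  | add a b ha hb =>
    erw [germP_add, map_add, map_add, ha, hb]

lemma stalksToTens_tensToStalks : stalksToTens x P Q ≫ tensToStalks x P Q = 𝟙 _ :=
  ModuleCat.MonoidalCategory.tensor_ext fun m n => by
    obtain ⟨U, hU, p, q, rfl, rfl⟩ := exists_common P Q m n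
    change tensToStalks x P Q (psi P Q _ _) = _
    rw [psi_germP, tensToStalks_germP]
    rfl

variable (x) in
/-- The stalk of a tensor product of presheaves of modules. -/
noncomputable def stalkTensIso : (stalkP x).obj (P ⊗ Q) ≅ (stalkP x).obj P ⊗ (stalkP x).obj Q where
  hom := tensToStalks x P Q
  inv := stalksToTens x P Q
  hom_inv_id := tensToStalks_stalksToTens P Q
  inv_hom_id := stalksToTens_tensToStalks P Q

variable {P Q}

lemma stalkTensIso_natural {P' Q' : CohB1.PMod X} (f : P ⟶ P') (g : Q ⟶ Q') :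
    (stalkP x).map (f ⊗ₘ g) ≫ (stalkTensIso x P' Q').hom =
      (stalkTensIso x P Q).hom ≫ ((stalkP x).map f ⊗ₘ (stalkP x).map g) := by
  rw [← cancel_epi (stalkTensIso x P Q).inv, Iso.inv_hom_id_assoc]
  refine ModuleCat.MonoidalCategory.tensor_ext fun m n => ?_
  obtain ⟨U, hU, p, q, rfl, rfl⟩ := exists_common P Q m n
  change tensToStalks x P' Q' ((stalkP x).map (f ⊗ₘ g) (psi P Q _ _)) = _
  rw [psi_germP, stalkP_map_germP]
  refine Eq.trans (tensToStalks_germP P' Q' U hU (f.app (op U) p) (g.app (op U) q)) ?_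
  rw [← stalkP_map_germP f, ← stalkP_map_germP g]
  rfl

variable (x) in
/-- The stalk of a tensor product of O_X-modules. -/
noncomputable def stalkTensorIso (M N : X.Modules) :
    (DerSch.stalkFunctor X x).obj (((DCoh.tensorBi (X := X)).obj M).obj N) ≅
      (DerSch.stalkFunctor X x).obj M ⊗ (DerSch.stalkFunctor X x).obj N :=
  (shPStalkIso x).app (DCoh.toP.obj M ⊗ DCoh.toP.obj N) ≪≫ stalkTensIso x _ _ ≪≫
    ((stalkFunctorIso x).app M ⊗ᵢ (stalkFunctorIso x).app N).symm

lemma stalkTensorIso_natural {M M' N N' : X.Modules} (f : M ⟶ M') (g : N ⟶ N') :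
    (DerSch.stalkFunctor X x).map (((DCoh.tensorBi (X := X)).map f).app N ≫ ((DCoh.tensorBi (X := X)).obj M').map g) ≫
        (stalkTensorIso x M' N').hom =
      (stalkTensorIso x M N).hom ≫
        ((DerSch.stalkFunctor X x).map f ⊗ₘ (DerSch.stalkFunctor X x).map g) := by
  have h₁ := (shPStalkIso x).hom.naturality (DCoh.toP.map f ⊗ₘ DCoh.toP.map g)
  have h₂ := stalkTensIso_natural (x := x) (DCoh.toP.map f) (DCoh.toP.map g)
  have e : ((DCoh.tensorBi (X := X)).map f).app N ≫ ((DCoh.tensorBi (X := X)).obj M').map g =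
      DCoh.shP.map (DCoh.toP.map f ⊗ₘ DCoh.toP.map g) := by
    rw [MonoidalCategory.tensorHom_def, Functor.map_comp]
    rfl
  rw [e]
  simp only [stalkTensorIso, Iso.trans_hom, Iso.app_hom, Category.assoc]
  erw [reassoc_of% h₁, reassoc_of% h₂]
  congr 2
  simp [stalkFunctorIso]
  rfl

end Groth.Agent.ModStalk
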