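import Groth.Agent.ModStalk.Exact

/-! Stalks of pullbacks of O_X-modules. -/

set_option autoImplicit false
set_option backward.isDefEq.respectTransparency false
set_option backward.defeqAttrib.useBackward true
set_option linter.style.haveILetI false

universe u

open CategoryTheory CategoryTheory.Limits AlgebraicGeometry Opposite TopologicalSpace

namespace Groth.Agent.ModStalk

variable {X Y : Scheme.{u}} (f : X ⟶ Y) (x : X)

/-- Sections of a pushed forward skyscraper. -/
noncomputable def skyPushSec (A : ModuleCat.{u} (X.presheaf.stalk x)) (U : Y.Opens) :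
    ((Scheme.Modules.pushforward f).obj ((sky x).obj A)).val.obj (op U) ≅
      ((skyP (f.base x)).obj ((ModuleCat.restrictScalars (f.stalkMap x).hom).obj A)).obj (op U) where
  hom := ModuleCat.ofHom
    (X := ((Scheme.Modules.pushforward f).obj ((sky x).obj A)).val.obj (op U))
    (Y := ((skyP (f.base x)).obj ((ModuleCat.restrictScalars (f.stalkMap x).hom).obj A)).obj (op U))
    { toFun := fun s => smk (x := f.base x) (A := (ModuleCat.restrictScalars (f.stalkMap x).hom).obj A)
        fun h => sval (A := A) (U := f ⁻¹ᵁ U) s h
      map_add' := fun _ _ => rfl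
      map_smul' := fun r s => sval_ext (A := (ModuleCat.restrictScalars (f.stalkMap x).hom).obj A) (U := U) fun h => by
        change X.presheaf.germ (f ⁻¹ᵁ U) x h (f.app U r) • sval (A := A) (U := f ⁻¹ᵁ U) s h =
          f.stalkMap x (Y.presheaf.germ U (f.base x) h r) • sval (A := A) (U := f ⁻¹ᵁ U) s h
        erw [Scheme.Hom.germ_stalkMap_apply] }
  inv := ModuleCat.ofHom
    (X := ((skyP (f.base x)).obj ((ModuleCat.restrictScalars (f.stalkMap x).hom).obj A)).obj (op U))
    (Y := ((Scheme.Modules.pushforward f).obj ((sky x).obj A)).val.obj (op U))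
    { toFun := fun s => smk (x := x) (A := A) (U := f ⁻¹ᵁ U)
        fun h => sval (A := (ModuleCat.restrictScalars (f.stalkMap x).hom).obj A) (U := U) s h
      map_add' := fun _ _ => rfl
      map_smul' := fun r s => sval_ext (A := A) (U := f ⁻¹ᵁ U) fun h => by
        change f.stalkMap x (Y.presheaf.germ U (f.base x) h r) • sval (A := A) (U := f ⁻¹ᵁ U) _ h =
          X.presheaf.germ (f ⁻¹ᵁ U) x h (f.app U r) • sval (A := A) (U := f ⁻¹ᵁ U) _ h
        erw [Scheme.Hom.germ_stalkMap_apply] }
  hom_inv_id := rfl
  inv_hom_id := rfl

/-- Pushforward of a skyscraper is a skyscraper. -/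
noncomputable def skyPushIso :
    sky x ⋙ Scheme.Modules.pushforward f ≅ ModuleCat.restrictScalars (f.stalkMap x).hom ⋙ sky (f.base x) :=
  NatIso.ofComponents
    (fun A => (Scheme.Modules.fullyFaithfulToPresheafOfModules (X := Y)).preimageIso
      (PresheafOfModules.isoMk (fun U => skyPushSec f x A U.unop)
        (fun U V i => ModuleCat.hom_ext (LinearMap.ext fun _ => rfl)) :))
    (fun {A B} g => (Scheme.Modules.fullyFaithfulToPresheafOfModules (X := Y)).map_injective (by
      simp only [Functor.map_comp, Functor.FullyFaithful.map_preimage, Functor.FullyFaithful.preimageIso_hom]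
      rfl))

/-- The stalk of a pullback is the extension of scalars of the stalk. -/
noncomputable def pullbackStalkIso :
    Scheme.Modules.pullback f ⋙ DerSch.stalkFunctor X x ≅
      DerSch.stalkFunctor Y (f.base x) ⋙ ModuleCat.extendScalars (f.stalkMap x).hom :=
  (((Scheme.Modules.pullbackPushforwardAdjunction f).comp (stalkAdj x)).ofNatIsoRight (skyPushIso f x)).leftAdjointUniq
    ((stalkAdj (f.base x)).comp (ModuleCat.extendRestrictScalarsAdj (f.stalkMap x).hom))

end Groth.Agent.ModStalk
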