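import Groth.Agent.ModStalk.Sky
import Mathlib.Algebra.Homology.ShortComplex.ExactFunctor
import Mathlib.Algebra.Homology.Functor
import Mathlib.Algebra.Homology.QuasiIso
import Mathlib.Topology.Sheaves.Stalks
import Mathlib.Algebra.Homology.HomotopyCategory.Acyclic

/-! Exactness and conservativity of stalk functors on O_X-modules. -/

set_option autoImplicit false
set_option linter.style.haveILetI false
set_option backward.isDefEq.respectTransparency false
set_option backward.defeqAttrib.useBackward true

universe u

open CategoryTheory CategoryTheory.Limits AlgebraicGeometry Opposite TopologicalSpace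

namespace Groth.Agent.ModStalk

variable {X : Scheme.{u}}

/-- A monomorphism of O_X-modules is injective on sections. -/
lemma app_injective_of_mono {M N : X.Modules} (f : M ⟶ N) [Mono f] (U : X.Opens) :
    Function.Injective (f.app U) := by
  haveI : Mono f.mapPresheaf := inferInstanceAs (Mono ((Scheme.Modules.toPresheaf X).map f))
  haveI := NatTrans.mono_iff_mono_app f.mapPresheaf |>.1 inferInstance (op U)
  exact (AddCommGrpCat.mono_iff_injective _).1 this

instance preservesMonomorphisms_stalkFunctor (x : X) :
    (DerSch.stalkFunctor X x).PreservesMonomorphisms where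
  preserves {M N} f _ := by
    rw [ModuleCat.mono_iff_injective]
    exact TopCat.Presheaf.stalkFunctor_map_injective_of_app_injective
      (f := f.mapPresheaf) (fun U => app_injective_of_mono f U) x

instance preservesFiniteColimits_stalkFunctor (x : X) :
    PreservesFiniteColimits (DerSch.stalkFunctor X x) :=
  haveI := (stalkAdj x).leftAdjoint_preservesColimits
  inferInstance

instance preservesColimits_stalkFunctor (x : X) :
    PreservesColimitsOfSize.{u, u} (DerSch.stalkFunctor X x) :=
  (stalkAdj x).leftAdjoint_preservesColimits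

instance preservesFiniteLimits_stalkFunctor (x : X) :
    PreservesFiniteLimits (DerSch.stalkFunctor X x) := by
  have e := (Functor.preservesFiniteLimits_tfae (DerSch.stalkFunctor X x)).out 0 3
  refine e.1 fun S hS => ⟨?_, ?_⟩
  · have e' := (Functor.preservesFiniteColimits_tfae (DerSch.stalkFunctor X x)).out 3 0
    exact (e'.1 inferInstance S hS).1
  · haveI := hS.mono_f
    infer_instance

/-- A module with zero stalks is zero. -/
lemma isZero_of_stalks {M : X.Modules} (h : ∀ x, IsZero ((DerSch.stalkFunctor X x).obj M)) :
    IsZero M := by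
  rw [IsZero.iff_id_eq_zero]
  ext U s
  change s = (0 : Γ(M, U))
  apply TopCat.Presheaf.section_ext ⟨M.presheaf, M.isSheaf⟩ U
  intro x hx
  haveI := ModuleCat.subsingleton_of_isZero (h x)
  exact Subsingleton.elim (α := ((DerSch.stalkFunctor X x).obj M : Type u)) _ _

/-- A map is an isomorphism if it is one on all stalks. -/
lemma isIso_of_stalks {M N : X.Modules} (f : M ⟶ N)
    (h : ∀ x, IsIso ((DerSch.stalkFunctor X x).map f)) : IsIso f := by
  haveI : Mono f := Preadditive.mono_of_isZero_kernel _ (isZero_of_stalks fun x => by
    haveI := h x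
    exact IsZero.of_iso (isZero_kernel_of_mono ((DerSch.stalkFunctor X x).map f))
      (PreservesKernel.iso (DerSch.stalkFunctor X x) f))
  haveI : Epi f := Preadditive.epi_of_isZero_cokernel _ (isZero_of_stalks fun x => by
    haveI := h x
    exact IsZero.of_iso (isZero_cokernel_of_epi ((DerSch.stalkFunctor X x).map f))
      (PreservesCokernel.iso (DerSch.stalkFunctor X x) f))
  exact isIso_of_mono_of_epi f

/-- The stalk complex. -/
noncomputable abbrev stalkK (x : X) :
    CochainComplex X.Modules ℤ ⥤ CochainComplex (ModuleCat.{u} (X.presheaf.stalk x)) ℤ :=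
  (DerSch.stalkFunctor X x).mapHomologicalComplex (ComplexShape.up ℤ)

/-- Acyclicity is stalkwise. -/
lemma acyclic_iff_stalks (K : CochainComplex X.Modules ℤ) :
    K.Acyclic ↔ ∀ x, ((stalkK x).obj K).Acyclic := by
  refine ⟨fun h x n => (h n).map (DerSch.stalkFunctor X x), fun h n => ?_⟩
  rw [HomologicalComplex.exactAt_iff_isZero_homology]
  refine isZero_of_stalks fun x => ?_
  exact IsZero.of_iso ((HomologicalComplex.exactAt_iff_isZero_homology _ _).1 (h x n))
    ((K.sc n).mapHomologyIso (DerSch.stalkFunctor X x)).symm

/-- Being a quasi-isomorphism is stalkwise. -/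
lemma quasiIso_iff_stalks {K L : CochainComplex X.Modules ℤ} (f : K ⟶ L) :
    QuasiIso f ↔ ∀ x, QuasiIso ((stalkK x).map f) := by
  refine ⟨fun h x => inferInstance, fun h => ⟨fun n => ?_⟩⟩
  rw [quasiIsoAt_iff_isIso_homologyMap]
  refine isIso_of_stalks _ fun x => ?_
  let α := (HomologicalComplex.shortComplexFunctor X.Modules (ComplexShape.up ℤ) n).map f
  have hq : ShortComplex.QuasiIso ((DerSch.stalkFunctor X x).mapShortComplex.map α) :=
    (quasiIsoAt_iff ((stalkK x).map f) n).1 ((h x).quasiIsoAt n)
  rw [ShortComplex.quasiIso_iff] at hq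
  exact (NatIso.isIso_map_iff (ShortComplex.homologyFunctorIso (DerSch.stalkFunctor X x)) α).1 hq

end Groth.Agent.ModStalk
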