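import Groth.Agent.ModStalk.Exact
import Mathlib.Algebra.Category.ModuleCat.Presheaf.Free
import Mathlib.Algebra.Category.ModuleCat.EpiMono
import Mathlib.RingTheory.Flat.Basic
import Mathlib.Algebra.Category.ModuleCat.Projective
import Mathlib.Algebra.Category.ModuleCat.Presheaf.EpiMono

/-! Every O_X-module is a quotient of a flat one. -/

set_option autoImplicit false
set_option backward.isDefEq.respectTransparency false
set_option backward.defeqAttrib.useBackward true
set_option linter.style.haveILetI false

universe u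

open CategoryTheory CategoryTheory.Limits AlgebraicGeometry Opposite TopologicalSpace

namespace Groth.Agent.ModStalk

lemma freeObj_map_freeMk {C : Type*} [Category C] {R : Cᵒᵖ ⥤ RingCat.{u}} (F : Cᵒᵖ ⥤ Type u) {V W : Cᵒᵖ}
    (j : V ⟶ W) (t : F.obj V) :
    (PresheafOfModules.freeObj (R := R) F).map j (ModuleCat.freeMk t) = ModuleCat.freeMk (F.map j t) :=
  ModuleCat.freeDesc_apply _ _

variable {X : Scheme.{u}} {I : Type u} (U : I → X.Opens)

/-- A sum of representable presheaves of sets. -/
def repSum : (X.Opens)ᵒᵖ ⥤ Type u where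
  obj V := Σ i : I, PLift (V.unop ≤ U i)
  map {V W} j := TypeCat.ofHom fun s => ⟨s.1, ⟨j.unop.le.trans s.2.down⟩⟩

/-- The free presheaf of modules on a sum of representables. -/
noncomputable def freeRep : CohB1.PMod X :=
  (PresheafOfModules.free (X.sheaf.obj ⋙ forget₂ CommRingCat RingCat)).obj (repSum U)

variable {U}

/-- A map out of `freeRep` from values on the generators. -/
noncomputable def freeRepDesc {G : CohB1.PMod X} (g : ∀ i, G.obj (op (U i))) : freeRep U ⟶ G :=
  PresheafOfModules.freeObjDesc
    { app := fun V => TypeCat.ofHom fun s => G.map (homOfLE s.2.down).op (g s.1)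
      naturality := fun {V W} j => by
        ext s
        exact G.map_comp_apply (homOfLE s.2.down).op j (g s.1) }

/-- The generators. -/
noncomputable def gen (i : I) : (freeRep U).obj (op (U i)) :=
  ModuleCat.freeMk (⟨i, ⟨le_rfl⟩⟩ : (repSum U).obj (op (U i)))

lemma freeRepDesc_gen {G : CohB1.PMod X} (g : ∀ i, G.obj (op (U i))) (i : I) :
    (freeRepDesc g).app (op (U i)) (gen i) = g i := by
  refine (ModuleCat.freeDesc_apply _ _).trans ?_
  exact G.congr_map_apply (show (homOfLE (le_refl (U i))).op = 𝟙 _ from rfl) (g i) |>.trans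
    (by rw [G.map_id]; rfl)

lemma freeRep_hom_ext {G : CohB1.PMod X} {φ ψ : freeRep U ⟶ G}
    (h : ∀ i, φ.app (op (U i)) (gen i) = ψ.app (op (U i)) (gen i)) : φ = ψ := by
  refine PresheafOfModules.hom_ext fun V => ModuleCat.free_hom_ext fun s => ?_
  have e : (show (freeRep U).obj V from ModuleCat.freeMk s) = (freeRep U).map (homOfLE s.2.down).op (gen s.1) := by
    symm
    exact freeObj_map_freeMk (R := X.sheaf.obj ⋙ forget₂ CommRingCat RingCat) (repSum U)
      (homOfLE s.2.down).op (⟨s.1, ⟨le_rfl⟩⟩ : (repSum U).obj (op (U s.1)))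
  refine (congrArg (φ.app V) e).trans (Eq.trans ?_ (congrArg (ψ.app V) e).symm)
  exact (PresheafOfModules.naturality_apply φ (homOfLE s.2.down).op (gen s.1)).trans
    ((congrArg _ (h s.1)).trans (PresheafOfModules.naturality_apply ψ (homOfLE s.2.down).op (gen s.1)).symm)

variable (U)

/-- Stalks of `freeRep` are projective. -/
theorem projective_stalk_freeRep (x : X) : Projective ((stalkP x).obj (freeRep U)) where
  factors {A B} g f _ := by
    classical
    let φ := liftSky g
    have hf := (ModuleCat.epi_iff_surjective f).1 inferInstance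
    choose a ha using fun i (h : x ∈ U i) => hf (sval (appS φ (U i) (gen i)) h)
    let ψ : freeRep U ⟶ (skyP x).obj A := freeRepDesc fun i => (smk fun h => a i h : SkySec A (U i))
    refine ⟨((stalkSkyAdj x).homEquiv _ _).symm ψ, ?_⟩
    apply ((stalkSkyAdj x).homEquiv _ _).injective
    rw [(stalkSkyAdj x).homEquiv_naturality_right, Equiv.apply_symm_apply]
    refine freeRep_hom_ext fun i => ?_
    refine (congrArg ((skyP x).map f |>.app (op (U i))) (freeRepDesc_gen _ i)).trans ?_
    exact sval_ext (A := B) (U := U i) fun h => ha i h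

/-- Every O_X-module is a quotient of a flat one. -/
theorem exists_flat_cover (M : X.Modules) :
    ∃ (F : X.Modules) (p : F ⟶ M), Epi p ∧ FlatMod.IsFlat F := by
  let U : (Σ V : X.Opens, M.val.obj (op V)) → X.Opens := fun i => i.1
  let q : freeRep U ⟶ DCoh.toP.obj M := freeRepDesc fun i => i.2
  haveI : Epi q := PresheafOfModules.epi_of_surjective fun V s =>
    ⟨(gen (U := U) ⟨V.unop, s⟩ : (freeRep U).obj V), freeRepDesc_gen (U := U) (fun i => i.2) ⟨V.unop, s⟩⟩
  let adj := PresheafOfModules.sheafificationAdjunction.{u, u, u, u} (R := X.ringCatSheaf) (𝟙 X.ringCatSheaf.obj)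
  refine ⟨DCoh.shP.obj (freeRep U), DCoh.shP.map q ≫ adj.counit.app M, ?_, fun x => ?_⟩
  · haveI : Epi (DCoh.shP.map q) := by
      haveI : (DCoh.shP (X := X)).IsLeftAdjoint := adj.isLeftAdjoint
      infer_instance
    haveI : Epi (adj.counit.app M) := inferInstance
    exact CategoryTheory.epi_comp _ _
  · haveI := projective_stalk_freeRep U x
    haveI : Module.Projective (X.presheaf.stalk x) ((DerSch.stalkFunctor X x).obj (DCoh.shP.obj (freeRep U))) :=
      (IsProjective.iff_projective _).2
        (Projective.of_iso ((shPStalkIso x).app (freeRep U)).symm inferInstance)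
    exact (inferInstance : Module.Flat (X.presheaf.stalk x) ((DerSch.stalkFunctor X x).obj (DCoh.shP.obj (freeRep U))))

end Groth.Agent.ModStalk
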