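import Groth.Agent.ModStalk.Exact

/-! The stalk of a skyscraper; exactness of skyscrapers. -/

set_option autoImplicit false
set_option backward.isDefEq.respectTransparency false
set_option backward.defeqAttrib.useBackward true
set_option linter.style.haveILetI false

universe u

open CategoryTheory CategoryTheory.Limits AlgebraicGeometry Opposite TopologicalSpace

namespace Groth.Agent.ModStalk

variable {X : Scheme.{u}} (x : X)

instance isIso_stalkSkyAdj_counit : IsIso (stalkSkyAdj x).counit := by
  haveI : ∀ A, IsIso ((stalkSkyAdj x).counit.app A) := fun A => by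
    rw [ConcreteCategory.isIso_iff_bijective]
    have e : ∀ (U : X.Opens) (h : x ∈ U) (s : SkySec A U),
        (stalkSkyAdj x).counit.app A (germP x ((skyP x).obj A) U h s) = sval s h :=
      fun U h s => descFun_germP (𝟙 _) U h s
    refine ⟨?_, fun a => ⟨germP x ((skyP x).obj A) ⊤ trivial (smk fun _ => a : SkySec A ⊤), e ⊤ trivial _⟩⟩
    intro m m' hm
    obtain ⟨U, hU, s, rfl⟩ := exists_germP_eq _ m
    obtain ⟨V, hV, t, rfl⟩ := exists_germP_eq _ m'
    rw [← germP_res ((skyP x).obj A) (Opens.infLELeft U V) ⟨hU, hV⟩ s,
      ← germP_res ((skyP x).obj A) (Opens.infLERight U V) ⟨hU, hV⟩ t] at hm ⊢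
    erw [e, e] at hm
    exact congrArg _ (sval_ext (A := A) (U := U ⊓ V) fun _ => hm)
  exact NatIso.isIso_of_isIso_app _

/-- The stalk of a skyscraper. -/
noncomputable def skyStalkIso : sky x ⋙ DerSch.stalkFunctor X x ≅ 𝟭 _ :=
  Functor.isoWhiskerLeft (sky x) (stalkFunctorIso x) ≪≫ (Functor.associator _ _ _).symm ≪≫
    Functor.isoWhiskerRight (skyToPIso (x := x)) (stalkP x) ≪≫ asIso (stalkSkyAdj x).counit

instance preservesEpimorphisms_sky : (sky (X := X) x).PreservesEpimorphisms where
  preserves {A B} g _ := by
    haveI : Epi ((skyP x).map g) := PresheafOfModules.epi_of_surjective fun U s => by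
      choose a ha using fun h => (ModuleCat.epi_iff_surjective g).1 inferInstance (sval (A := B) (U := U.unop) s h)
      exact ⟨(smk a : SkySec A U.unop), sval_ext (A := B) (U := U.unop) fun h => ha h⟩
    haveI : Epi ((Scheme.Modules.toPresheafOfModules X).map ((sky x).map g)) :=
      inferInstanceAs (Epi ((skyP x).map g))
    exact (Scheme.Modules.toPresheafOfModules X).epi_of_epi_map this

instance additive_sky : (sky (X := X) x).Additive where
  map_add {A B f g} := (Scheme.Modules.toPresheafOfModules X).map_injective (by
    refine PresheafOfModules.hom_ext fun U => ModuleCat.hom_ext (LinearMap.ext fun s => ?_)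
    exact sval_ext (A := B) (U := U.unop) fun h => rfl)

instance preservesFiniteLimits_sky : PreservesFiniteLimits (sky (X := X) x) :=
  haveI := (stalkAdj x).rightAdjoint_preservesLimits
  inferInstance

instance preservesFiniteColimits_sky : PreservesFiniteColimits (sky (X := X) x) :=
  by
  have e := (Functor.preservesFiniteColimits_tfae (sky (X := X) x)).out 0 3
  have e' := (Functor.preservesFiniteLimits_tfae (sky (X := X) x)).out 3 0
  refine e.1 fun S hS => ⟨(e'.1 inferInstance S hS).1, ?_⟩
  haveI := hS.epi_g
  infer_instance

end Groth.Agent.ModStalk
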