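import Groth.Prelude.Def_DerSch
import Groth.Prelude.Def_DCoh4

/-! Stalks of O_X-modules and skyscraper modules. -/

set_option autoImplicit false
set_option backward.isDefEq.respectTransparency false
set_option backward.defeqAttrib.useBackward true

universe u

open CategoryTheory CategoryTheory.Limits AlgebraicGeometry Opposite TopologicalSpace

namespace Groth.Agent.ModStalk

variable {X : Scheme.{u}} (x : X)

/-- The underlying abelian presheaf. -/
noncomputable abbrev absP (P : CohB1.PMod X) : TopCat.Presheaf Ab X.toTopCat :=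
  PresheafOfModules.presheaf (R := X.presheaf ⋙ forget₂ CommRingCat RingCat) P

/-- Stalks of presheaves of modules. -/
noncomputable abbrev stalkPObj (P : CohB1.PMod X) : ModuleCat.{u} (X.presheaf.stalk x) :=
  ModuleCat.of (X.presheaf.stalk x)
    ↑(TopCat.Presheaf.stalk (absP P) x)

/-- The germ of a section. -/
noncomputable def germP (P : CohB1.PMod X) (U : X.Opens) (hx : x ∈ U) (s : P.obj (op U)) :
    stalkPObj x P :=
  TopCat.Presheaf.germ (absP P) U x hx s

variable {x}

lemma germP_add (P : CohB1.PMod X) (U : X.Opens) (hx : x ∈ U) (s t : P.obj (op U)) :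
    germP x P U hx (s + t) = germP x P U hx s + germP x P U hx t :=
  map_add _ s t

lemma germP_zero (P : CohB1.PMod X) (U : X.Opens) (hx : x ∈ U) :
    germP x P U hx 0 = 0 :=
  map_zero (TopCat.Presheaf.germ (absP P) U x hx).hom

lemma germP_smul (P : CohB1.PMod X) (U : X.Opens) (hx : x ∈ U) (r : X.presheaf.obj (op U))
    (s : P.obj (op U)) :
    germP x P U hx (r • s) = X.presheaf.germ U x hx r • germP x P U hx s :=
  PresheafOfModules.germ_smul (R := X.presheaf) P x U hx r s

lemma germP_res (P : CohB1.PMod X) {U V : X.Opens} (i : V ⟶ U) (hx : x ∈ V) (s : P.obj (op U)) :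
    germP x P V hx (P.map i.op s) = germP x P U (i.le hx) s :=
  TopCat.Presheaf.germ_res_apply (absP P) i x hx s

lemma exists_germP_eq (P : CohB1.PMod X) (m : stalkPObj x P) :
    ∃ (U : X.Opens) (hx : x ∈ U) (s : P.obj (op U)), germP x P U hx s = m :=
  by
  obtain ⟨U, hU, s, hs⟩ := TopCat.Presheaf.exists_germ_eq (absP P) (x := x) (show (absP P).stalk x from m)
  exact ⟨U, hU, s, hs⟩

lemma germP_eq_iff (P : CohB1.PMod X) {U V : X.Opens} (hU : x ∈ U) (hV : x ∈ V) (s : P.obj (op U))
    (t : P.obj (op V)) (h : germP x P U hU s = germP x P V hV t) :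
    ∃ (W : X.Opens) (_ : x ∈ W) (iU : W ⟶ U) (iV : W ⟶ V), P.map iU.op s = P.map iV.op t :=
  by
  obtain ⟨W, hW, iU, iV, he⟩ := TopCat.Presheaf.germ_eq (absP P) x hU hV
    (show ToType ((absP P).obj (op U)) from s) (show ToType ((absP P).obj (op V)) from t) h
  exact ⟨W, hW, iU, iV, he⟩

lemma stalkFun_germP {P Q : CohB1.PMod X} (φ : P ⟶ Q) (U : X.Opens) (hx : x ∈ U)
    (s : P.obj (op U)) :
    (TopCat.Presheaf.stalkFunctor Ab x).map
      (show absP P ⟶ absP Q from (PresheafOfModules.toPresheaf _).map φ) (germP x P U hx s) =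
      germP x Q U hx (φ.app (op U) s) :=
  TopCat.Presheaf.stalkFunctor_map_germ_apply U x hx
    (show absP P ⟶ absP Q from (PresheafOfModules.toPresheaf _).map φ) s

set_option maxHeartbeats 1000000 in
lemma stalkFun_smul {P Q : CohB1.PMod X} (φ : P ⟶ Q) (r : X.presheaf.stalk x) (m : stalkPObj x P) :
    (TopCat.Presheaf.stalkFunctor Ab x).map
      (show absP P ⟶ absP Q from (PresheafOfModules.toPresheaf _).map φ) (r • m) =
      r • (show stalkPObj x Q from (TopCat.Presheaf.stalkFunctor Ab x).map
        (show absP P ⟶ absP Q from (PresheafOfModules.toPresheaf _).map φ) m) := by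
  obtain ⟨U, hU, r, rfl⟩ := X.presheaf.exists_germ_eq (x := x) r
  obtain ⟨V, hV, s, rfl⟩ := exists_germP_eq P m
  rw [← X.presheaf.germ_res_apply (Opens.infLELeft U V) x ⟨hU, hV⟩ r,
    ← germP_res P (Opens.infLERight U V) ⟨hU, hV⟩ s, ← germP_smul]
  rw [stalkFun_germP, stalkFun_germP]
  rw [← germP_smul]
  exact congrArg (germP x Q (U ⊓ V) ⟨hU, hV⟩) (map_smul (φ.app (op (U ⊓ V))).hom
    (X.presheaf.map (Opens.infLELeft U V).op r) (P.map (Opens.infLERight U V).op s))

variable (x)

/-- Stalks of presheaves of modules, as a functor. -/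
noncomputable def stalkP : CohB1.PMod X ⥤ ModuleCat.{u} (X.presheaf.stalk x) where
  obj := stalkPObj x
  map {P Q} φ := ModuleCat.ofHom
    { toFun := (TopCat.Presheaf.stalkFunctor Ab x).map (show absP P ⟶ absP Q from (PresheafOfModules.toPresheaf _).map φ)
      map_add' := fun a b => map_add _ a b
      map_smul' := stalkFun_smul φ }
  map_id P := by
    refine ModuleCat.hom_ext (LinearMap.ext fun m => ?_)
    obtain ⟨U, hU, s, rfl⟩ := exists_germP_eq P m
    exact stalkFun_germP (𝟙 P) U hU s
  map_comp {P Q R} φ ψ := by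
    refine ModuleCat.hom_ext (LinearMap.ext fun m => ?_)
    obtain ⟨U, hU, s, rfl⟩ := exists_germP_eq P m
    refine (stalkFun_germP (φ ≫ ψ) U hU s).trans ?_
    refine Eq.trans ?_ (congrArg _ (stalkFun_germP φ U hU s)).symm
    exact (stalkFun_germP ψ U hU _).symm

variable {x}

lemma stalkP_map_germP {P Q : CohB1.PMod X} (φ : P ⟶ Q) (U : X.Opens) (hx : x ∈ U)
    (s : P.obj (op U)) :
    (stalkP x).map φ (germP x P U hx s) = germP x Q U hx (φ.app (op U) s) :=
  stalkFun_germP φ U hx s

lemma stalkP_hom_ext {P : CohB1.PMod X} {A : ModuleCat.{u} (X.presheaf.stalk x)}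
    {f g : (stalkP x).obj P ⟶ A}
    (h : ∀ (U : X.Opens) (hx : x ∈ U) (s : P.obj (op U)), f (germP x P U hx s) = g (germP x P U hx s)) :
    f = g := by
  refine ModuleCat.hom_ext (LinearMap.ext fun m => ?_)
  obtain ⟨U, hU, s, rfl⟩ := exists_germP_eq P m
  exact h U hU s

/-- The action of sections on a stalk module. -/
noncomputable abbrev fibModule (A : ModuleCat.{u} (X.presheaf.stalk x)) (U : X.Opens) (h : x ∈ U) :
    Module (X.presheaf.obj (op U)) A :=
  Module.compHom A (X.presheaf.germ U x h).hom

/-- Sections of the skyscraper module. -/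
def SkySec (A : ModuleCat.{u} (X.presheaf.stalk x)) (U : X.Opens) : Type u := PLift (x ∈ U) → A

noncomputable instance (A : ModuleCat.{u} (X.presheaf.stalk x)) (U : X.Opens) :
    AddCommGroup (SkySec A U) :=
  inferInstanceAs (AddCommGroup (PLift (x ∈ U) → A))

noncomputable instance skySecModule (A : ModuleCat.{u} (X.presheaf.stalk x)) (U : X.Opens) :
    Module (X.presheaf.obj (op U)) (SkySec A U) :=
  letI : ∀ h : PLift (x ∈ U), Module (X.presheaf.obj (op U)) A := fun h => fibModule A U h.down
  inferInstanceAs (Module (X.presheaf.obj (op U)) (PLift (x ∈ U) → A))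

/-- Sections of the skyscraper module, bundled. -/
noncomputable abbrev skyObj (A : ModuleCat.{u} (X.presheaf.stalk x)) (U : X.Opens) :
    ModuleCat.{u} (X.presheaf.obj (op U)) :=
  ModuleCat.of _ (SkySec A U)

/-- Value of a skyscraper section. -/
def sval {A : ModuleCat.{u} (X.presheaf.stalk x)} {U : X.Opens} (s : SkySec A U) (h : x ∈ U) : A :=
  (show PLift (x ∈ U) → A from s) ⟨h⟩

/-- Constructor for skyscraper sections. -/
def smk {A : ModuleCat.{u} (X.presheaf.stalk x)} {U : X.Opens} (f : x ∈ U → A) : SkySec A U :=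
  show PLift (x ∈ U) → A from fun h => f h.down

lemma sval_ext {A : ModuleCat.{u} (X.presheaf.stalk x)} {U : X.Opens} {s t : SkySec A U}
    (h : ∀ hx, sval s hx = sval t hx) : s = t :=
  funext fun hx => h hx.down

@[simp] lemma sval_smk {A : ModuleCat.{u} (X.presheaf.stalk x)} {U : X.Opens} (f : x ∈ U → A)
    (h : x ∈ U) : sval (smk f) h = f h := rfl

@[simp] lemma sval_add {A : ModuleCat.{u} (X.presheaf.stalk x)} {U : X.Opens} (s t : SkySec A U)
    (h : x ∈ U) : sval (s + t) h = sval s h + sval t h := rfl

@[simp] lemma sval_zero {A : ModuleCat.{u} (X.presheaf.stalk x)} {U : X.Opens}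
    (h : x ∈ U) : sval (0 : SkySec A U) h = 0 := rfl

@[simp] lemma sval_smul (A : ModuleCat.{u} (X.presheaf.stalk x)) (U : X.Opens)
    (r : X.presheaf.obj (op U)) (s : SkySec A U) (h : x ∈ U) :
    sval (r • s) h = X.presheaf.germ U x h r • sval s h := rfl

/-- The skyscraper presheaf of modules. -/
noncomputable def skyPObj (A : ModuleCat.{u} (X.presheaf.stalk x)) : CohB1.PMod X where
  obj U := skyObj A U.unop
  map {U V} i := ModuleCat.ofHom (X := skyObj A U.unop)
    (Y := (ModuleCat.restrictScalars ((X.sheaf.obj ⋙ forget₂ CommRingCat RingCat).map i).hom).obj (skyObj A V.unop))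
    { toFun := fun (s : skyObj A U.unop) => smk fun h => sval s (i.unop.le h)
      map_add' := fun _ _ => rfl
      map_smul' := fun r s => sval_ext fun h => by
        change X.presheaf.germ U.unop x (i.unop.le h) r • sval (A := A) s (i.unop.le h) =
          X.presheaf.germ V.unop x h (X.presheaf.map i r) • sval (A := A) s (i.unop.le h)
        erw [X.presheaf.germ_res_apply i.unop x h r] }
  map_id _ := rfl
  map_comp _ _ := rfl

variable (x) in
/-- The skyscraper functor to presheaves of modules. -/
noncomputable def skyP : ModuleCat.{u} (X.presheaf.stalk x) ⥤ CohB1.PMod X where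
  obj := skyPObj
  map {A B} g :=
    { app := fun U => ModuleCat.ofHom
        { toFun := fun (s : skyObj A U.unop) => (smk fun h => g (sval s h) : skyObj B U.unop)
          map_add' := fun s t => sval_ext fun h => map_add g.hom (sval s h) (sval t h)
          map_smul' := fun r s => sval_ext fun h =>
            g.hom.map_smul (X.presheaf.germ U.unop x h r) (sval s h) }
      naturality := fun _ => rfl }
  map_id _ := rfl
  map_comp _ _ := rfl

/-- Application of a map into a skyscraper. -/
noncomputable abbrev appS {P : CohB1.PMod X} {A : ModuleCat.{u} (X.presheaf.stalk x)}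
    (φ : P ⟶ (skyP x).obj A) (U : X.Opens) (s : P.obj (op U)) : SkySec A U := φ.app (op U) s

/-- Cocone for descending a map into a skyscraper to the stalk. -/
noncomputable def descFun {P : CohB1.PMod X} {A : ModuleCat.{u} (X.presheaf.stalk x)}
    (φ : P ⟶ (skyP x).obj A) :
    TopCat.Presheaf.stalk (absP P) x ⟶
      AddCommGrpCat.of A :=
  colimit.desc _
    { pt := AddCommGrpCat.of A
      ι :=
        { app := fun U => AddCommGrpCat.ofHom
            { toFun := fun s => sval (appS φ U.unop.1 s) U.unop.2
              map_zero' := by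
                change sval (appS φ U.unop.1 0) U.unop.2 = 0
                rw [show appS φ U.unop.1 0 = 0 from map_zero (φ.app (op U.unop.1)).hom]
                rfl
              map_add' := fun a b => by
                change sval (appS φ U.unop.1 (a + b)) U.unop.2 = _
                rw [show appS φ U.unop.1 (a + b) = appS φ U.unop.1 a + appS φ U.unop.1 b from map_add (φ.app (op U.unop.1)).hom a b]
                rfl }
          naturality := fun U V i => by
            ext s
            exact congrArg (fun t => sval (A := A) (U := V.unop.1) t V.unop.2)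
              (PresheafOfModules.naturality_apply φ ((OpenNhds.inclusion x).op.map i) s) } }

lemma descFun_germP {P : CohB1.PMod X} {A : ModuleCat.{u} (X.presheaf.stalk x)}
    (φ : P ⟶ (skyP x).obj A) (U : X.Opens) (hx : x ∈ U) (s : P.obj (op U)) :
    descFun φ (germP x P U hx s) = sval (appS φ U s) hx := by
  change ((TopCat.Presheaf.germ _ U x hx) ≫ descFun φ) s = _
  dsimp only [TopCat.Presheaf.germ, descFun]
  erw [colimit.ι_desc]
  rfl

/-- The linear map out of the stalk. -/
noncomputable def descLin {P : CohB1.PMod X} {A : ModuleCat.{u} (X.presheaf.stalk x)}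
    (φ : P ⟶ (skyP x).obj A) : (stalkP x).obj P ⟶ A :=
  ModuleCat.ofHom
    { toFun := descFun φ
      map_add' := fun a b => map_add _ a b
      map_smul' := fun r m => by
        obtain ⟨U, hU, r, rfl⟩ := X.presheaf.exists_germ_eq (x := x) r
        obtain ⟨V, hV, s, rfl⟩ := exists_germP_eq P m
        rw [← X.presheaf.germ_res_apply (Opens.infLELeft U V) x ⟨hU, hV⟩ r,
          ← germP_res P (Opens.infLERight U V) ⟨hU, hV⟩ s, ← germP_smul]
        simp only [RingHom.id_apply]
        rw [descFun_germP, descFun_germP]
        exact congrArg (fun t : SkySec A (U ⊓ V) => sval t ⟨hU, hV⟩) (map_smul (φ.app (op (U ⊓ V))).hom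
          (X.presheaf.map (Opens.infLELeft U V).op r) (P.map (Opens.infLERight U V).op s)) }

/-- The map into a skyscraper adjoint to a map out of the stalk. -/
noncomputable def liftSky {P : CohB1.PMod X} {A : ModuleCat.{u} (X.presheaf.stalk x)}
    (g : (stalkP x).obj P ⟶ A) : P ⟶ (skyP x).obj A where
  app U := ModuleCat.ofHom (X := P.obj U) (Y := ((skyP x).obj A).obj U)
    { toFun := fun s => smk fun h => g (germP x P U.unop h s)
      map_add' := fun s t => sval_ext fun h => by
        change g (germP x P U.unop h (s + t)) = g (germP x P U.unop h s) + g (germP x P U.unop h t)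
        rw [germP_add]
        exact map_add g.hom _ _
      map_smul' := fun r s => sval_ext fun h => by
        change g (germP x P U.unop h (r • s)) = X.presheaf.germ U.unop x h r • g (germP x P U.unop h s)
        rw [← g.hom.map_smul]
        exact congrArg g (germP_smul P U.unop h r s) }
  naturality {U V} i := by
    refine ModuleCat.hom_ext (LinearMap.ext fun s => sval_ext fun h => ?_)
    exact congrArg g (germP_res P i.unop h s)

variable (x) in
/-- Stalk is left adjoint to skyscraper. -/
noncomputable def stalkSkyAdj : stalkP x ⊣ skyP x :=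
  Adjunction.mkOfHomEquiv
    { homEquiv := fun P A =>
        { toFun := liftSky
          invFun := descLin
          left_inv := fun g => stalkP_hom_ext fun U hU s => (descFun_germP (liftSky g) U hU s).trans rfl
          right_inv := fun φ => PresheafOfModules.hom_ext fun U =>
            ModuleCat.hom_ext (LinearMap.ext fun s => sval_ext fun h => (descFun_germP φ U.unop h s :)) }
      homEquiv_naturality_left_symm := fun {P Q A} f g => stalkP_hom_ext fun U hU s => by
        change descFun (f ≫ g) (germP x P U hU s) = descFun g ((stalkP x).map f (germP x P U hU s))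
        rw [stalkP_map_germP, descFun_germP, descFun_germP]
        rfl
      homEquiv_naturality_right := fun {P A B} f g => rfl }

/-- The skyscraper is a sheaf. -/
theorem isSheaf_sky (A : ModuleCat.{u} (X.presheaf.stalk x)) :
    TopCat.Presheaf.IsSheaf (PresheafOfModules.presheaf (R := X.presheaf ⋙ forget₂ CommRingCat RingCat) ((skyP x).obj A)) := by
  classical
  rw [TopCat.Presheaf.isSheaf_iff_isSheafUniqueGluing]
  intro ι U sf hsf
  have key : ∀ (i j : ι) (hi : x ∈ U i) (hj : x ∈ U j),
      sval (A := A) (U := U i) (sf i) hi = sval (A := A) (U := U j) (sf j) hj := fun i j hi hj =>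
    congrArg (fun t => sval (A := A) (U := U i ⊓ U j) t ⟨hi, hj⟩) (hsf i j)
  refine ⟨(smk fun h => sval (A := A) (U := U (Opens.mem_iSup.1 h).choose) (sf _) (Opens.mem_iSup.1 h).choose_spec :
    skyObj A (iSup U)), fun i => sval_ext (A := A) (U := U i) fun h => key _ i _ h,
    fun t ht => sval_ext (A := A) (U := iSup U) fun h => ?_⟩
  obtain ⟨i, hi⟩ := Opens.mem_iSup.1 h
  exact (congrArg (fun t => sval (A := A) (U := U i) t hi) (ht i)).trans (key _ _ _ _)

variable (x) in
/-- The skyscraper O_X-module. -/
noncomputable def sky : ModuleCat.{u} (X.presheaf.stalk x) ⥤ X.Modules where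
  obj A := ⟨(skyP x).obj A, isSheaf_sky A⟩
  map g := ⟨(skyP x).map g⟩
  map_id _ := rfl
  map_comp _ _ := rfl

variable (x) in
/-- The prelude's stalk functor is the stalk of the underlying presheaf of modules. -/
noncomputable def stalkFunctorIso : DerSch.stalkFunctor X x ≅ DCoh.toP ⋙ stalkP x :=
  NatIso.ofComponents (fun _ => Iso.refl _) fun {M N} φ => by
    simp only [Iso.refl_hom, Category.comp_id]
    rfl

/-- Underlying presheaf of skyscraper. -/
noncomputable def skyToPIso : sky x ⋙ DCoh.toP ≅ skyP x :=
  NatIso.ofComponents (fun _ => Iso.refl _) fun _ => rfl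

variable (x) in
/-- Stalk of O_X-modules is left adjoint to skyscraper. -/
noncomputable def stalkAdj : DerSch.stalkFunctor X x ⊣ sky x :=
  (stalkSkyAdj x).restrictFullyFaithful (iC := DCoh.toP) (iD := 𝟭 _) (L := DerSch.stalkFunctor X x) (R := sky x)
    (Scheme.Modules.fullyFaithfulToPresheafOfModules (X := X))
    (Functor.FullyFaithful.id _)
    ((stalkFunctorIso x).symm ≪≫ (Functor.rightUnitor _).symm)
    (Functor.leftUnitor _ ≪≫ (skyToPIso (x := x)).symm)

instance (x : X) : (stalkP (X := X) x).IsLeftAdjoint := (stalkSkyAdj x).isLeftAdjoint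
instance (x : X) : (DerSch.stalkFunctor X x).IsLeftAdjoint := (stalkAdj x).isLeftAdjoint
instance (x : X) : (sky (X := X) x).IsRightAdjoint := (stalkAdj x).isRightAdjoint

variable (x) in
/-- Sheafification does not change stalks. -/
noncomputable def shPStalkIso : DCoh.shP ⋙ DerSch.stalkFunctor X x ≅ stalkP x :=
  (((PresheafOfModules.sheafificationAdjunction.{u, u, u, u} (R := X.ringCatSheaf)
    (𝟙 X.ringCatSheaf.obj)).comp (stalkAdj x)).leftAdjointUniq (stalkSkyAdj x))

end Groth.Agent.ModStalk
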